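import Mathlib

/-!
Choosing a rational point of a variety avoiding a family of proper closed subsets indexed by the spectrum of a
tensor product of fields.
-/

set_option autoImplicit false

universe u

open scoped TensorProduct

namespace Groth.Agent.H12AlgSp.GroupField

/-- Every finite subset lies in a subalgebra with finitely many primes. -/
def FinPrimes (κ C : Type u) [CommRing κ] [CommRing C] [Algebra κ C] : Prop :=
  ∀ s : Finset C, ∃ (C₀ : Type u) (_ : CommRing C₀) (_ : Algebra κ C₀) (ι : C₀ →ₐ[κ] C),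
    Finite (PrimeSpectrum C₀) ∧ Function.Injective ι ∧ (s : Set C) ⊆ Set.range ι

/-- A base change of a field extension to an algebraic extension has this property. -/
theorem finPrimes_tensor (k κ F : Type u) [Field k] [Field κ] [Algebra k κ] [Algebra.IsAlgebraic k κ]
    [Field F] [Algebra k F] : FinPrimes κ (κ ⊗[k] F) := by
  classical
  intro s
  choose t ht using fun z : κ ⊗[k] F => TensorProduct.exists_finset z
  let S : Finset F := s.biUnion fun z => (t z).image Prod.snd
  let F₀ := IntermediateField.adjoin k (S : Set F)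
  have : Algebra.EssFiniteType k F₀ :=
    IntermediateField.essFiniteType_iff.2 (IntermediateField.fg_adjoin_finset S)
  have : IsNoetherianRing (κ ⊗[k] F₀) := by
    exact Algebra.EssFiniteType.isNoetherianRing κ (κ ⊗[k] F₀)
  let ι : κ ⊗[k] F₀ →ₐ[κ] κ ⊗[k] F := Algebra.TensorProduct.map (AlgHom.id κ κ) F₀.val
  refine ⟨κ ⊗[k] F₀, inferInstance, inferInstance, ι, ?_, ?_, ?_⟩
  · have hint : (Algebra.TensorProduct.includeRight (R := k) (A := κ) (B := F₀)).toRingHom.IsIntegral := by
      intro z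
      induction z using TensorProduct.induction_on with
      | zero => exact RingHom.isIntegralElem_zero _
      | add x y hx hy => exact RingHom.IsIntegralElem.add _ hx hy
      | tmul a f =>
        have e : a ⊗ₜ[k] f = (a ⊗ₜ[k] (1 : F₀)) * (Algebra.TensorProduct.includeRight.toRingHom f) := by simp
        rw [e]
        refine RingHom.IsIntegralElem.mul _ ?_ (RingHom.isIntegralElem_map _)
        obtain ⟨P, hm, hP⟩ := Algebra.IsIntegral.isIntegral (R := k) a
        refine ⟨P.map (algebraMap k F₀), hm.map _, ?_⟩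
        rw [Polynomial.eval₂_map]
        have := congrArg (Algebra.TensorProduct.includeLeft : κ →ₐ[k] κ ⊗[k] F₀) hP
        rw [map_zero, ← Polynomial.aeval_def, ← Polynomial.aeval_algHom_apply, Polynomial.aeval_def] at this
        have hc : (Algebra.TensorProduct.includeRight (R := k) (A := κ) (B := F₀)).toRingHom.comp (algebraMap k F₀) =
            algebraMap k (κ ⊗[k] F₀) :=
          RingHom.ext fun c => (Algebra.TensorProduct.includeRight (R := k) (A := κ) (B := F₀)).commutes c
        erw [hc]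
        exact this
    have : Ring.KrullDimLE 0 (κ ⊗[k] F₀) := Ring.KrullDimLE.mk₀ fun P hP => by
      let φ := (Algebra.TensorProduct.includeRight (R := k) (A := κ) (B := F₀)).toRingHom
      refine Ideal.isMaximal_of_isIntegral_of_isMaximal_comap' φ hint P ?_
      have : (P.comap φ).IsPrime := Ideal.IsPrime.comap φ
      exact (Ideal.bot_isMaximal (K := F₀)).eq_of_le this.ne_top bot_le ▸ Ideal.bot_isMaximal
    have : IsArtinianRing (κ ⊗[k] F₀) := by
      exact (isArtinianRing_iff_isNoetherianRing_krullDimLE_zero (R := κ ⊗[k] F₀)).2 ⟨inferInstance, inferInstance⟩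
    infer_instance
  · exact Module.Flat.lTensor_preserves_injective_linearMap F₀.val.toLinearMap Subtype.val_injective
  · intro z hz
    rw [ht z]
    refine Subalgebra.sum_mem ι.range fun p hp => ⟨p.1 ⊗ₜ[k] ⟨p.2, ?_⟩, by simp [ι]⟩
    exact IntermediateField.subset_adjoin k _
      (Finset.mem_coe.2 (Finset.mem_biUnion.2 ⟨z, hz, Finset.mem_image_of_mem _ hp⟩))

variable {κ C R K : Type u} [Field κ] [IsAlgClosed κ] [CommRing C] [Algebra κ C] [CommRing R] [Algebra κ R]
  [IsDomain R] [Algebra.FiniteType κ R] [CommRing K] [Algebra κ K]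

/-- A rational point at which an ideal, nonzero over every prime of `C`, generates the unit ideal. -/
theorem exists_algHom_map_eq_top (hC : FinPrimes κ C) (g : R →ₐ[κ] K) (J : Ideal (C ⊗[κ] R))
    (hJ : ∀ c : PrimeSpectrum C, ∃ a ∈ J,
      Algebra.TensorProduct.map (IsScalarTower.toAlgHom κ C c.asIdeal.ResidueField) g a ≠ 0) :
    ∃ φ : R →ₐ[κ] κ,
      J.map (Algebra.TensorProduct.lift (AlgHom.id κ C) ((Algebra.ofId κ C).comp φ)
        (fun _ _ => Commute.all _ _)).toRingHom = ⊤ := by
  classical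
  let b := Module.Free.chooseBasis κ R
  let B := Algebra.TensorProduct.basis C b
  have hexp : ∀ a : C ⊗[κ] R, a = (B.repr a).sum fun i d => d ⊗ₜ[κ] b i := fun a => by
    conv_lhs => rw [← B.linearCombination_repr a]
    rw [Finsupp.linearCombination_apply]
    refine Finsupp.sum_congr fun i _ => ?_
    rw [Algebra.TensorProduct.basis_apply, TensorProduct.smul_tmul', smul_eq_mul, mul_one]
  let D : Ideal C := Ideal.span {d | ∃ a ∈ J, ∃ i, B.repr a i = d}
  have hD : D = ⊤ := by
    by_contra hne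
    obtain ⟨m, hm, hle⟩ := Ideal.exists_le_maximal D hne
    obtain ⟨a, ha, hne'⟩ := hJ ⟨m, hm.isPrime⟩
    refine hne' ?_
    rw [hexp a, map_finsuppSum]
    refine Finset.sum_eq_zero fun i _ => ?_
    change Algebra.TensorProduct.map _ g ((B.repr a i) ⊗ₜ[κ] b i) = 0
    rw [Algebra.TensorProduct.map_tmul]
    have : algebraMap C m.ResidueField (B.repr a i) = 0 :=
      Ideal.algebraMap_residueField_eq_zero.2 (hle (Ideal.subset_span ⟨a, ha, i, rfl⟩))
    change algebraMap C m.ResidueField (B.repr a i) ⊗ₜ[κ] g (b i) = 0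
    rw [this, TensorProduct.zero_tmul]
  obtain ⟨S, hSJ, h1⟩ : ∃ S : Finset (C ⊗[κ] R), (∀ a ∈ S, a ∈ J) ∧
      (1 : C) ∈ Ideal.span {d | ∃ a ∈ S, ∃ i, B.repr a i = d} := by
    obtain ⟨T, hT, h1⟩ := Submodule.mem_span_finite_of_mem_span ((Ideal.eq_top_iff_one D).1 hD)
    choose! a ha i hi using fun d (hd : d ∈ T) => hT (Finset.mem_coe.2 hd)
    refine ⟨T.image a, fun x hx => ?_, Ideal.span_mono (fun d hd => ?_) h1⟩
    · obtain ⟨d, hd, rfl⟩ := Finset.mem_image.1 hx
      exact ha d hd
    · exact ⟨a d, Finset.mem_image_of_mem _ hd, i d, hi d hd⟩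
  obtain ⟨l, hl⟩ := (Finsupp.mem_span_iff_linearCombination _ _ _).1 h1
  obtain ⟨C₀, _, _, ι, hfin, hinj, hsub⟩ :=
    hC (l.support.image l ∪ S.biUnion fun a => (B.repr a).support.image (B.repr a))
  have hr : ∀ a ∈ S, ∀ i, B.repr a i ∈ Set.range ι := fun a ha i => by
    by_cases h : i ∈ (B.repr a).support
    · exact hsub (Finset.mem_coe.2 (Finset.mem_union_right _
        (Finset.mem_biUnion.2 ⟨a, ha, Finset.mem_image_of_mem _ h⟩)))
    · exact ⟨0, by rw [map_zero, Finsupp.notMem_support_iff.1 h]⟩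
  choose! e he using hr
  -- at every prime of the subalgebra some coefficient survives
  have hp : ∀ p : PrimeSpectrum C₀, ∃ r : R, r ≠ 0 ∧ ∀ φ : R →ₐ[κ] κ, φ r ≠ 0 →
      ∃ a ∈ S, ((B.repr a).support.sum fun i => φ (b i) • e a i) ∉ p.asIdeal := by
    intro p
    obtain ⟨a, ha, i, hai, hni⟩ : ∃ a ∈ S, ∃ i, i ∈ (B.repr a).support ∧ e a i ∉ p.asIdeal := by
      by_contra hcon
      push Not at hcon
      refine p.isPrime.ne_top ((Ideal.eq_top_iff_one _).2 ?_)
      have hi : ∀ x ∈ l.support, ∃ z ∈ p.asIdeal, ι z = l x * x.1 := fun x hx => by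
        obtain ⟨⟨a, ha, i, hai⟩⟩ := Nonempty.intro x.2
        by_cases h : i ∈ (B.repr a).support
        · obtain ⟨y, hy⟩ := hsub (Finset.mem_coe.2 (Finset.mem_union_left _ (Finset.mem_image_of_mem l hx)))
          exact ⟨y * e a i, p.asIdeal.mul_mem_left _ (hcon a ha i h),
            by rw [map_mul, hy, he a ha i, hai]⟩
        · exact ⟨0, zero_mem _, by rw [map_zero, ← hai, Finsupp.notMem_support_iff.1 h, mul_zero]⟩
      choose! z hz hzι using hi
      have : ι (∑ x ∈ l.support, z x) = ι 1 := by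
        rw [map_sum, map_one, ← hl, Finsupp.linearCombination_apply]
        exact Finset.sum_congr rfl fun x hx => hzι x hx
      exact (hinj this) ▸ sum_mem hz
    have hne : algebraMap C₀ p.asIdeal.ResidueField (e a i) ≠ 0 := fun h0 =>
      hni (Ideal.algebraMap_residueField_eq_zero.1 h0)
    obtain ⟨ℓ, hℓ⟩ : ∃ ℓ : p.asIdeal.ResidueField →ₗ[κ] κ, ℓ (algebraMap C₀ _ (e a i)) ≠ 0 := by
      by_contra hcon
      push Not at hcon
      exact hne ((Module.forall_dual_apply_eq_zero_iff κ _).1 hcon)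
    let c : R := (B.repr a).support.sum fun j => ℓ (algebraMap C₀ _ (e a j)) • b j
    refine ⟨c, fun h0 => hℓ ?_, fun φ hφ => ⟨a, ha, fun hmem => hφ ?_⟩⟩
    · exact linearIndependent_iff'.1 b.linearIndependent _ _ h0 i hai
    · have h0 : ℓ ((IsScalarTower.toAlgHom κ C₀ p.asIdeal.ResidueField)
          ((B.repr a).support.sum fun j => φ (b j) • e a j)) = 0 := by
        rw [show (IsScalarTower.toAlgHom κ C₀ p.asIdeal.ResidueField)
          ((B.repr a).support.sum fun j => φ (b j) • e a j) = 0 from Ideal.algebraMap_residueField_eq_zero.2 hmem,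
          map_zero]
      rw [map_sum, map_sum] at h0
      rw [← h0]
      simp only [c, map_sum, map_smul, smul_eq_mul, IsScalarTower.toAlgHom_apply]
      exact Finset.sum_congr rfl fun j _ => mul_comm _ _
  choose r hr0 hrφ using hp
  haveI := Fintype.ofFinite (PrimeSpectrum C₀)
  have hprod : ∏ p, r p ≠ 0 := Finset.prod_ne_zero_iff.2 fun p _ => hr0 p
  have : IsJacobsonRing R := isJacobsonRing_of_finiteType (A := κ)
  obtain ⟨m, hm, hmr⟩ : ∃ m : Ideal R, m.IsMaximal ∧ ∏ p, r p ∉ m := by
    by_contra hcon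
    push Not at hcon
    refine hprod ?_
    have : ∏ p, r p ∈ (⊥ : Ideal R).jacobson := Ideal.mem_sInf.2 fun {J} hJ => hcon J hJ.2
    rwa [IsJacobsonRing.out ‹_› (Ideal.isRadical_iff_quotient_reduced _ |>.2 (isReduced_of_injective (RingEquiv.quotientBot R) (RingEquiv.injective _))), Ideal.mem_bot] at this
  haveI := hm
  letI : Field (R ⧸ m) := Ideal.Quotient.field m
  have : Algebra.FiniteType κ (R ⧸ m) := Algebra.FiniteType.of_surjective (Ideal.Quotient.mkₐ κ m) Ideal.Quotient.mk_surjective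
  have : Module.Finite κ (R ⧸ m) := finite_of_finite_type_of_isJacobsonRing κ (R ⧸ m)
  let E : κ ≃ₐ[κ] R ⧸ m :=
    AlgEquiv.ofBijective (Algebra.ofId κ (R ⧸ m)) IsAlgClosed.algebraMap_bijective_of_isIntegral
  let φ : R →ₐ[κ] κ := E.symm.toAlgHom.comp (Ideal.Quotient.mkₐ κ m)
  refine ⟨φ, ?_⟩
  set Φ := Algebra.TensorProduct.lift (AlgHom.id κ C) ((Algebra.ofId κ C).comp φ) fun _ _ => Commute.all _ _
  let y : C ⊗[κ] R → C₀ := fun a => (B.repr a).support.sum fun i => φ (b i) • e a i
  have hy : ∀ a ∈ S, ι (y a) = Φ a := fun a ha => by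
    conv_rhs => rw [hexp a, map_finsuppSum]
    simp only [y, map_sum, map_smul, Finsupp.sum]
    refine Finset.sum_congr rfl fun i _ => ?_
    rw [he a ha i, Algebra.smul_def, Algebra.TensorProduct.lift_tmul, mul_comm]
    rfl
  have htop : Ideal.span (y '' (S : Set (C ⊗[κ] R))) = ⊤ := by
    by_contra hne
    obtain ⟨M, hM, hle⟩ := Ideal.exists_le_maximal _ hne
    obtain ⟨a, ha, hna⟩ := hrφ ⟨M, hM.isPrime⟩ φ (fun h0 => hmr (Ideal.IsPrime.prod_mem_iff.2
      ⟨⟨M, hM.isPrime⟩, Finset.mem_univ _, by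
        refine Ideal.Quotient.eq_zero_iff_mem.1 (E.symm.injective ?_)
        rw [map_zero]
        exact h0⟩))
    exact hna (hle (Ideal.subset_span ⟨a, ha, rfl⟩))
  refine eq_top_iff.2 ?_
  rw [← Ideal.map_top (ι : C₀ →+* C), ← htop, Ideal.map_span, Ideal.span_le]
  rintro _ ⟨_, ⟨a, ha, rfl⟩, rfl⟩
  exact (hy a ha) ▸ Ideal.mem_map_of_mem Φ.toRingHom (hSJ a ha)

end Groth.Agent.H12AlgSp.GroupField
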