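import Groth.Agent.H13AlgSp.ExtRep
import Groth.Agent.H19Grp.AlgClosedGeom
import Mathlib.CategoryTheory.Monoidal.Cartesian.Grp

/-!
Translating by the generic point of the identity component of a group scheme over an algebraically closed field.
-/

set_option autoImplicit false
set_option backward.isDefEq.respectTransparency false

universe u

open CategoryTheory CategoryTheory.Limits AlgebraicGeometry MonoidalCategory MonObj CartesianMonoidalCategory
open Groth.Agent.H13AlgSp
open scoped TensorProduct

namespace Groth.Agent.H12AlgSp.GroupField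

variable {κ : Type u} [Field κ]

/-- The map from the joint spectrum of two extensions given by a point in the first. -/
noncomputable def jointMap (W : Over (Spec (CommRingCat.of κ))) {F K : Type u} [Field F] [Algebra κ F] [Field K]
    [Algebra κ K] (g : extObj κ F ⟶ W) : algObj κ (F ⊗[κ] K) ⟶ W ⊗ extObj κ K :=
  lift (algHomOver Algebra.TensorProduct.includeLeft ≫ g) (algHomOver Algebra.TensorProduct.includeRight)

/-- Every point has a maximal generalization. -/
theorem exists_maximal_generalization {X : Scheme.{u}} (x : X) :
    ∃ a : X, a ⤳ x ∧ ∀ y : X, y ⤳ a → y = a := by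
  obtain ⟨a, ha⟩ := QuasiSober.sober (isIrreducible_irreducibleComponent (x := x)) isClosed_irreducibleComponent
  refine ⟨a, ha.specializes mem_irreducibleComponent, fun y hy => (hy.antisymm ?_).eq⟩
  refine specializes_iff_mem_closure.2 ?_
  have h : irreducibleComponent x ⊆ closure {y} := by
    rw [← ha.def]
    exact closure_minimal (Set.singleton_subset_iff.2 (specializes_iff_mem_closure.1 hy)) isClosed_closure
  rw [ha.def, ← eq_irreducibleComponent isIrreducible_singleton.closure.isPreirreducible h]
  exact subset_closure rfl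

variable [IsAlgClosed κ]

/-- Translating any point by the generic point of the identity component gives a maximal generalization. -/
theorem exists_translation_chart (W : Over (Spec (CommRingCat.of κ))) [GrpObj W] :
    ∃ (K : Type u) (_ : Field K) (_ : Algebra κ K) (ρ : W ⊗ extObj κ K ⟶ W), IsAffineHom ρ.left ∧
      ∀ (F : Type u) [Field F] [Algebra κ F] (g : extObj κ F ⟶ W) (z : PrimeSpectrum (F ⊗[κ] K)), z.asIdeal = ⊥ →
        (∀ q : W.left, q ⤳ (jointMap W g ≫ ρ).left z → q = (jointMap W g ≫ ρ).left z) ∧
          (jointMap W g ≫ ρ).left z ⤳ g.left (IsLocalRing.closedPoint F) := by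
  let pt₁ : (𝟙_ (Over (Spec (CommRingCat.of κ)))).left := IsLocalRing.closedPoint κ
  let e : W.left := (η[W]).left pt₁
  obtain ⟨y, hye, hymax⟩ := exists_maximal_generalization e
  let ψ := Spec.preimage (W.left.fromSpecResidueField y ≫ W.hom)
  let K : Type u := W.left.residueField y
  letI : Algebra κ K := ψ.hom.toAlgebra
  let gK : extObj κ K ⟶ W := Over.homMk (W.left.fromSpecResidueField y)
    (Spec.map_preimage (W.left.fromSpecResidueField y ≫ W.hom)).symm
  let ρ : W ⊗ extObj κ K ⟶ W := fst W (extObj κ K) * (snd W (extObj κ K) ≫ gK)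
  refine ⟨K, inferInstance, inferInstance, ρ, ?_, ?_⟩
  · let h : W ⊗ extObj κ K ⟶ W := snd W (extObj κ K) ≫ gK
    let σ : W ⊗ extObj κ K ≅ W ⊗ extObj κ K :=
      { hom := lift (fst W _ * h) (snd W _)
        inv := lift (fst W _ * h⁻¹) (snd W _)
        hom_inv_id := by
          ext1
          · simp only [Category.assoc, lift_fst, Category.id_comp, MonObj.comp_mul, GrpObj.comp_inv, h, lift_snd_assoc]
            rw [mul_inv_cancel_right]
          · simp
        inv_hom_id := by
          ext1
          · simp only [Category.assoc, lift_fst, Category.id_comp, MonObj.comp_mul, GrpObj.comp_inv, h, lift_snd_assoc]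
            rw [inv_mul_cancel_right]
          · simp }
    have : ρ = σ.hom ≫ fst W (extObj κ K) := (lift_fst _ _).symm
    rw [this, Over.comp_left]
    have : IsIso σ.hom.left := inferInstanceAs (IsIso ((Over.forget _).mapIso σ).hom)
    have : IsAffineHom (extObj κ K).hom := inferInstanceAs (IsAffineHom (Spec.map _))
    have : IsAffineHom (fst W (extObj κ K)).left :=
      MorphismProperty.pullback_fst (P := @IsAffineHom) W.hom (extObj κ K).hom inferInstance
    infer_instance
  · intro F _ _ g z hz
    let D := algObj κ (F ⊗[κ] K)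
    let pF : D ⟶ extObj κ F := algHomOver Algebra.TensorProduct.includeLeft
    let pK : D ⟶ extObj κ K := algHomOver Algebra.TensorProduct.includeRight
    let β : D ⟶ extObj κ F ⊗ W := lift pF (pK ≫ gK)
    let T : extObj κ F ⊗ W ≅ extObj κ F ⊗ W :=
      { hom := lift (fst _ W) ((fst _ W ≫ g) * snd _ W)
        inv := lift (fst _ W) ((fst _ W ≫ g)⁻¹ * snd _ W)
        hom_inv_id := by
          ext1
          · simp
          · simp only [Category.assoc, lift_snd, Category.id_comp, MonObj.comp_mul, GrpObj.comp_inv, lift_fst_assoc]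
            rw [← _root_.mul_assoc, inv_mul_cancel, _root_.one_mul]
        inv_hom_id := by
          ext1
          · simp
          · simp only [Category.assoc, lift_snd, Category.id_comp, MonObj.comp_mul, GrpObj.comp_inv, lift_fst_assoc]
            rw [← _root_.mul_assoc, mul_inv_cancel, _root_.one_mul] }
    let v : extObj κ F ⊗ W ⟶ W := T.hom ≫ snd _ W
    have hv : jointMap W g ≫ ρ = β ≫ v := by
      simp only [jointMap, ρ, β, v, T, MonObj.comp_mul, lift_fst, lift_snd_assoc, lift_fst_assoc, lift_snd]
      rfl
    have : IsIso T.hom.left := inferInstanceAs (IsIso ((Over.forget _).mapIso T).hom)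
    have : Flat (extObj κ F).hom := Flat.SpecMap_iff.2 (RingHom.flat_algebraMap_iff.2 inferInstance)
    have : Flat (snd (extObj κ F) W).left :=
      MorphismProperty.of_isPullback (P := @Flat) (IsPullback.of_hasPullback (extObj κ F).hom W.hom) ‹_›
    have hsq : IsPullback β.left pK.left (snd (extObj κ F) W).left gK.left := by
      refine IsPullback.of_right (h₁₂ := (fst (extObj κ F) W).left) (h₂₂ := W.hom) (v₁₃ := (extObj κ F).hom) ?_ ?_
        (IsPullback.of_hasPullback (extObj κ F).hom W.hom)
      · rw [← Over.comp_left, lift_fst, show gK.left ≫ W.hom = (extObj κ K).hom from Over.w gK]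
        exact (IsPullback.of_iso_pullback ⟨(Over.w pF).trans (Over.w pK).symm⟩ (pullbackSpecIso κ F K).symm
          (pullbackSpecIso_inv_fst κ F K) (pullbackSpecIso_inv_snd κ F K))
      · rw [← Over.comp_left, ← Over.comp_left, lift_snd]
    have : IsPreimmersion gK.left := inferInstanceAs (IsPreimmersion (W.left.fromSpecResidueField y))
    have : IsPreimmersion β.left := MorphismProperty.of_isPullback (P := @IsPreimmersion) hsq.flip this
    have : IsDomain (F ⊗[κ] K) := H19Grp.isDomain_tensorProduct F K
    have hgen : ∀ z' : D.left, z ⤳ z' := fun z' =>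
      (PrimeSpectrum.le_iff_specializes z z').1 (show z.asIdeal ≤ z'.asIdeal from hz ▸ bot_le)
    have hrange : ∀ q : (extObj κ F ⊗ W).left, (snd (extObj κ F) W).left q = y → ∃ z', β.left z' = q := fun q hq => by
      obtain ⟨r, hr⟩ : y ∈ Set.range gK.left := ⟨IsLocalRing.closedPoint K, Scheme.fromSpecResidueField_apply y _⟩
      obtain ⟨w, hw, -⟩ := Scheme.Pullback.exists_preimage_pullback q r (hq.trans hr.symm)
      exact ⟨hsq.isoPullback.inv w, by rw [← Scheme.Hom.comp_apply, hsq.isoPullback_inv_fst, hw]⟩
    have hβy : ∀ z', (snd (extObj κ F) W).left (β.left z') = y := fun z' => by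
      rw [← Scheme.Hom.comp_apply, hsq.w, Scheme.Hom.comp_apply]
      exact Scheme.fromSpecResidueField_apply y _
    rw [hv]
    refine ⟨fun q hq => ?_, ?_⟩
    · have hq' : q ⤳ (snd (extObj κ F) W).left (T.hom.left (β.left z)) := hq
      obtain ⟨q₁, hq₁, rfl⟩ := Flat.generalizingMap (snd (extObj κ F) W).left hq'
      obtain ⟨q₂, rfl⟩ := T.hom.left.homeomorph.surjective q₁
      have hq₂ : q₂ ⤳ β.left z := T.hom.left.isOpenEmbedding.isInducing.specializes_iff.1 hq₁
      obtain ⟨z', rfl⟩ := hrange q₂ (hymax _ (hβy z ▸ hq₂.map (snd (extObj κ F) W).left.continuous))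
      have : z' = z := ((β.left.isEmbedding.isInducing.specializes_iff.1 hq₂).antisymm (hgen z')).eq
      subst this
      rfl
    · let ε : extObj κ F ⟶ extObj κ F ⊗ W := lift (𝟙 _) 1
      have hε : (snd (extObj κ F) W).left (ε.left (IsLocalRing.closedPoint F)) = e := by
        rw [← Scheme.Hom.comp_apply, ← Over.comp_left, lift_snd, Hom.one_def, Over.comp_left, Scheme.Hom.comp_apply]
        exact congrArg (η[W]).left (Subsingleton.elim (α := PrimeSpectrum κ) _ _)
      obtain ⟨c₁, hc₁, hc₁y⟩ := Flat.generalizingMap (snd (extObj κ F) W).left (hε ▸ hye)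
      obtain ⟨z', rfl⟩ := hrange c₁ hc₁y
      have h := (((hgen z').map β.left.continuous).trans hc₁).map v.left.continuous
      have hεv : ε ≫ v = g := by
        simp only [ε, v, T, MonObj.comp_mul, lift_snd, lift_fst_assoc, Category.id_comp]
        exact _root_.mul_one _
      rw [show v.left (ε.left (IsLocalRing.closedPoint F)) = g.left (IsLocalRing.closedPoint F) by
        rw [← Scheme.Hom.comp_apply, ← Over.comp_left, hεv]] at h
      exact h

end Groth.Agent.H12AlgSp.GroupField
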