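import Groth.Agent.H12AlgSp.GroupSpaceField

/-!
The scheme representing the base change of a group space is a group scheme over the larger field.
-/

set_option autoImplicit false
set_option backward.isDefEq.respectTransparency false

universe u

open CategoryTheory CategoryTheory.Limits AlgebraicGeometry MonoidalCategory MonObj CartesianMonoidalCategory Opposite
open AlgSp Groth.Agent.H13AlgSp

namespace Groth.Agent.H12AlgSp.GroupField

variable {k : Type u} [Field k] {K : Type u} [Field K] [Algebra k K]

/-- A scheme representing the base change of a group space is a group scheme over the extension field. -/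
theorem nonempty_grpObj (G : Over ((yon (Spec (CommRingCat.of k))).obj (Over.mk (𝟙 _)))) [GrpObj G]
    {W₀ : Over (Spec (CommRingCat.of k))} (ν : (yon _).obj W₀ ≅ bcSp G.left K) (w : W₀ ⟶ extObj k K)
    (hw : (yon _).map w = ν.hom ≫ prod.snd) :
    Nonempty (GrpObj (Over.mk w.left : Over (Spec (CommRingCat.of K)))) := by
  let ε : Spec (CommRingCat.of K) ⟶ Spec (CommRingCat.of k) := Spec.map (CommRingCat.ofHom (algebraMap k K))
  let W : Over (Spec (CommRingCat.of K)) := Over.mk w.left
  have hT : IsTerminal ((yon (Spec (CommRingCat.of k))).obj (Over.mk (𝟙 _))) :=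
    IsTerminal.isTerminalObj (yon _) _ Over.mkIdTerminal
  let res : Over (Spec (CommRingCat.of K)) ⥤ Over ((yon (Spec (CommRingCat.of k))).obj (Over.mk (𝟙 _))) :=
    { obj := fun T => Over.mk (hT.from ((yon _).obj ((Over.map ε).obj T)))
      map := fun φ => Over.homMk ((yon _).map ((Over.map ε).map φ)) (hT.hom_ext _ _)
      map_id := fun T => Over.OverMorphism.ext (by simp)
      map_comp := fun φ ψ => Over.OverMorphism.ext (by simp) }
  let F : (Over (Spec (CommRingCat.of K)))ᵒᵖ ⥤ GrpCat.{u + 1} :=
    { obj := fun T => GrpCat.of (res.obj T.unop ⟶ G)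
      map := fun φ => GrpCat.ofHom (MonoidHom.mk' (fun a => res.map φ.unop ≫ a) fun a b => MonObj.comp_mul _ a b)
      map_id := fun T => by ext a; simp
      map_comp := fun φ ψ => by ext a; simp }
  let q : ∀ T : Over (Spec (CommRingCat.of K)), (Over.map ε).obj T ⟶ extObj k K := fun T => Over.homMk T.hom rfl
  have hW₀ : w.left ≫ ε = W₀.hom := Over.w w
  let up : ∀ (T : Over (Spec (CommRingCat.of K))), (T ⟶ W) → ((Over.map ε).obj T ⟶ W₀) := fun T f =>
    Over.homMk f.left (by
      show f.left ≫ W₀.hom = T.hom ≫ ε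
      rw [← hW₀, ← Category.assoc]
      exact congrArg (· ≫ ε) (Over.w f))
  have hup : ∀ T f, up T f ≫ w = q T := fun T f => Over.OverMorphism.ext (Over.w f)
  have hinv : ∀ (T : Over (Spec (CommRingCat.of K))) (a : res.obj T ⟶ G),
      ∃ f : T ⟶ W, (yon _).map (up T f) ≫ ν.hom ≫ prod.fst = a.left := by
    intro T a
    obtain ⟨g, hg⟩ := (yon (Spec (CommRingCat.of k))).map_surjective
      ((prod.lift a.left ((yon _).map (q T)) : _ ⟶ bcSp G.left K) ≫ ν.inv)
    have hgw : g ≫ w = q T := (yon _).map_injective (by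
      rw [Functor.map_comp, hg, hw, Category.assoc, Iso.inv_hom_id_assoc, prod.lift_snd])
    refine ⟨Over.homMk g.left (congrArg Over.Hom.left hgw), ?_⟩
    rw [show up T _ = g from Over.OverMorphism.ext rfl, hg, Category.assoc, Iso.inv_hom_id_assoc, prod.lift_fst]
  refine ⟨GrpObj.ofRepresentableBy W F
    { homEquiv := fun {T} => Equiv.ofBijective
        (fun f => (Over.homMk ((yon _).map (up T f) ≫ ν.hom ≫ prod.fst) (hT.hom_ext _ _) : res.obj T ⟶ G))
        ⟨fun f f' h => ?_, fun a => ?_⟩
      homEquiv_comp := fun {T T'} φ f => Over.OverMorphism.ext ?_ }⟩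
  · have h1 : (yon _).map (up T f) ≫ ν.hom = (yon _).map (up T f') ≫ ν.hom := by
      apply prod.hom_ext
      · exact (Category.assoc _ _ _).trans ((congrArg Over.Hom.left h).trans (Category.assoc _ _ _).symm)
      · simp only [Category.assoc, ← hw, ← Functor.map_comp, hup]
    have h2 := (yon _).map_injective ((cancel_mono ν.hom).1 h1)
    exact Over.OverMorphism.ext (congrArg (fun t : (Over.map ε).obj T ⟶ W₀ => t.left) h2)
  · obtain ⟨f, hf⟩ := hinv T a
    exact ⟨f, Over.OverMorphism.ext hf⟩
  · show (yon _).map (up T (φ ≫ f)) ≫ ν.hom ≫ prod.fst =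
      (yon _).map ((Over.map ε).map φ) ≫ (yon _).map (up T' f) ≫ ν.hom ≫ prod.fst
    rw [show up T (φ ≫ f) = (Over.map ε).map φ ≫ up T' f from Over.OverMorphism.ext rfl, Functor.map_comp,
      Category.assoc]

end Groth.Agent.H12AlgSp.GroupField
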