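import Groth.Agent.H12AlgSp.GroupField.Spread
import Groth.Agent.H12AlgSp.GroupField.GroupScheme
import Groth.Agent.H12AlgSp.Branch.Groupoid
import Groth.Agent.H13AlgSp.CodimZeroScheme
import Groth.Agent.H13AlgSp.GaloisAffine
import Groth.Agent.H19Grp.PointsEq
import Groth.Agent.S10119

/-!
A separated group space over a field is a scheme near each of its points.
-/

set_option autoImplicit false
set_option backward.isDefEq.respectTransparency false
set_option linter.style.haveILetI false
set_option maxHeartbeats 1000000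

universe u

open CategoryTheory CategoryTheory.Limits AlgebraicGeometry MonoidalCategory MonObj CartesianMonoidalCategory Opposite
open AlgSp Groth.Agent.H13AlgSp
open scoped TensorProduct

namespace Groth.Agent.H12AlgSp.GroupField

variable {k : Type u} [Field k]

/-- Two generalizations of a point of a chart of a group space have a common generalization. -/
theorem dirGen_of_group (G : Over ((yon (Spec (CommRingCat.of k))).obj (Over.mk (𝟙 _)))) [GrpObj G]
    {U : Over (Spec (CommRingCat.of k))} {p : (yon _).obj U ⟶ G.left} (hp : RepWith @Etale p) (u : U.left) :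
    H19Grp.DirGen u := by
  let T := (yon (Spec (CommRingCat.of k))).obj (Over.mk (𝟙 _))
  have hT : IsTerminal T := IsTerminal.isTerminalObj (yon _) _ Over.mkIdTerminal
  let up : ∀ {Z : Sp (Spec (CommRingCat.of k))}, (Z ⟶ G.left) → (Over.mk (hT.from Z) ⟶ G) := fun {Z} a =>
    Over.homMk a (hT.hom_ext _ _)
  refine Branch.dirGen_chart (X := G.left) (𝟙 _) G.hom G.hom
    (fun a a' b _ _ => ((up a * (up b)⁻¹) * up a').left) ?_ ?_ ?_ hp u
  · intro Z Z' g a a' b _ _ _ _
    let g' : Over.mk (hT.from Z') ⟶ Over.mk (hT.from Z) := Over.homMk g (hT.hom_ext _ _)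
    have e : ∀ c : Z ⟶ G.left, g' ≫ up c = up (g ≫ c) := fun c => Over.OverMorphism.ext rfl
    change (g' ≫ ((up a * (up b)⁻¹) * up a')).left = _
    rw [MonObj.comp_mul, MonObj.comp_mul, GrpObj.comp_inv, e, e, e]
  · intro Z a b _
    change ((up a * (up b)⁻¹) * up b).left = a
    rw [inv_mul_cancel_right]
    rfl
  · intro Z a' b _
    change ((up b * (up b)⁻¹) * up a').left = a'
    rw [mul_inv_cancel, _root_.one_mul]
    rfl

/-- A maximal point is the generic point of a component. -/
theorem mem_genericPoints_of_maximal {X : Scheme.{u}} {y : X} (hy : ∀ z : X, z ⤳ y → z = y) :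
    y ∈ genericPoints X := by
  obtain ⟨z, hz⟩ := QuasiSober.sober (isIrreducible_irreducibleComponent (x := y)) isClosed_irreducibleComponent
  obtain rfl := hy z (hz.specializes mem_irreducibleComponent)
  show closure {z} ∈ irreducibleComponents X
  rw [hz.def]
  exact irreducibleComponent_mem_irreducibleComponents z

/-- A compact set of points of a space lies in a quasi-compact open. -/
theorem exists_compact_open_superset {X : Sp (Spec (CommRingCat.of k))} (hX : IsAlgSpace X)
    {Z : Set (Points X)} (hZ : IsCompact Z) : ∃ O : Set (Points X), IsOpen O ∧ IsCompact O ∧ Z ⊆ O := by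
  choose N hN hNc hxN _ using fun x : Points X => exists_compact_open_nhd hX x isOpen_univ (Set.mem_univ x)
  obtain ⟨t, ht⟩ := hZ.elim_finite_subcover N hN fun x _ => Set.mem_iUnion.2 ⟨x, hxN x⟩
  exact ⟨⋃ i ∈ t, N i, isOpen_biUnion fun i _ => hN i, t.isCompact_biUnion fun i _ => hNc i, ht⟩

/-- A separated group space over a field is a scheme near each of its points. -/
theorem exists_openImmersion_nhd_group (G : Over ((yon (Spec (CommRingCat.of k))).obj (Over.mk (𝟙 _)))) [GrpObj G]
    (hG : IsAlgSpace G.left) (hsep : IsSeparatedSp G.left) (x : Points G.left) :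
    ∃ (M : Over (Spec (CommRingCat.of k))) (j : (yon _).obj M ⟶ G.left),
      RepWith @IsOpenImmersion j ∧ x ∈ Set.range (Points.map j) := by
  classical
  let X := G.left
  let Ω := AlgebraicClosure k
  have : Normal k Ω := normal_iff.2 fun z => ⟨Algebra.IsIntegral.isIntegral z, IsAlgClosed.splits _⟩
  have hrep : (bcSp X Ω).obj.IsRepresentable := S10119.result k G hG hsep
  obtain ⟨W₀, ⟨eW⟩⟩ := isRepresentable_iff_exists_iso.1 hrep
  obtain ⟨w, hw⟩ := (yon _).map_surjective (eW.hom ≫ prod.snd)
  obtain ⟨grpW⟩ := nonempty_grpObj G eW w hw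
  let W : Over (Spec (CommRingCat.of Ω)) := Over.mk w.left
  letI : GrpObj W := grpW
  have : IsSeparated W.hom := H19Grp.PointsDense.isSeparated_grp W
  let π : (yon _).obj W₀ ⟶ X := eW.hom ≫ prod.fst
  have haff : RepWith @IsAffineHom π :=
    MorphismProperty.RespectsIso.precomp _ _ _ (repWith_bcFst @IsAffineHom X Ω inferInstance)
  have hqs : IsQuasiSeparatedSp X := ⟨hsep.1, fun _ _ _ _ m sq =>
    have : IsClosedImmersion m.left := hsep.2 _ _ m sq
    (inferInstance : QuasiCompact m.left)⟩
  have heWinj : ∀ v v' : W₀.left, Points.ofPt eW.hom v = Points.ofPt eW.hom v' → v = v' := fun v v' h => by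
    rw [Points.ofPt_eq_map_ofScheme, Points.ofPt_eq_map_ofScheme] at h
    have h' := congrArg (Points.map eW.inv) h
    rw [← Points.map_comp, ← Points.map_comp, Iso.hom_inv_id, Points.map_id, Points.map_id] at h'
    exact (Points.schemeEquiv W₀).injective h'
  -- the atlas
  obtain ⟨U, a, ha, has⟩ := hG.atlas
  obtain ⟨W', r, w', b, hb, hw', sqW'⟩ := exists_bc_chart X Ω a
  obtain ⟨j, hj⟩ := (yon _).map_surjective (b ≫ eW.inv)
  have : Etale j.left := (repWith_yon_map_iff @Etale j).1 (by
    rw [hj]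
    exact MorphismProperty.RespectsIso.postcomp _ eW.inv _ (repWith_of_isPullback hb ha))
  have : Flat (Spec.map (CommRingCat.ofHom (algebraMap k Ω))) :=
    Flat.SpecMap_iff.2 (RingHom.flat_algebraMap_iff.2 inferInstance)
  have : Flat r.left := MorphismProperty.of_isPullback (P := @Flat) sqW'.flip this
  have hjeW : (yon _).map j ≫ eW.hom = b := by rw [hj, Category.assoc, Iso.inv_hom_id, Category.comp_id]
  have hjπ : ∀ z : W'.left, Points.ofPt π (j.left z) = Points.ofPt a (r.left z) := fun z => by
    rw [← ofPt_map, ← ofPt_map, hb.w, ← hjeW, Category.assoc]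
  obtain ⟨u, hu⟩ := surjective_ofPt_of_repWith le_rfl has x
  obtain ⟨ξ, hξu, hξmax⟩ := exists_maximal_generalization u
  -- the affine open near the generic point of the component
  obtain ⟨O₁, Y, ν, hν, hO₁, hξO⟩ := exists_open_scheme_of_codimZero hG hqs (x := Points.ofPt a ξ)
    ⟨U, a, ξ, ha, rfl, (ringKrullDim_stalk_eq_zero_iff ξ).2 (mem_genericPoints_of_maximal hξmax)⟩
  obtain ⟨z₁, hz₁⟩ := (range_openSubι hG O₁).ge hξO
  obtain ⟨y₁, hy₁⟩ := (Points.schemeEquiv Y).surjective (Points.map (inv ν) z₁)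
  obtain ⟨Va, hVa, hy₁V, -⟩ := exists_isAffineOpen_mem_and_subset (TopologicalSpace.Opens.mem_top y₁)
  let j₁ : (yon _).obj (openOver Y Va) ⟶ X := (yon _).map (openIncl Y Va) ≫ ν ≫ openSubι O₁
  have hj₁ : RepWith @IsOpenImmersion j₁ :=
    repWith_comp ((repWith_yon_map_iff @IsOpenImmersion _).2 (inferInstanceAs (IsOpenImmersion Va.ι)))
      (repWith_comp (repWith_of_isIso _) (repWith_openSubι hO₁))
  have hξj : Points.ofPt a ξ ∈ Set.range (Points.map j₁) := by
    refine ⟨Points.ofScheme (openOver Y Va) ⟨y₁, hy₁V⟩, ?_⟩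
    rw [← Points.ofPt_eq_map_ofScheme, ofPt_map, Points.ofPt_eq_map_ofScheme]
    have : Points.ofScheme Y y₁ = Points.map (inv ν) z₁ := hy₁
    show Points.map (ν ≫ openSubι O₁) (Points.ofScheme Y y₁) = _
    rw [this, ← Points.map_comp, IsIso.inv_hom_id_assoc, hz₁]
  obtain ⟨P, pV, p', sqP⟩ := haff.rep j₁
  obtain ⟨p, rfl⟩ := (yon _).map_surjective p'
  have : IsAffineHom pV.left := haff.property _ _ pV sqP
  have : IsAffine (openOver Y Va).left := hVa
  have : IsAffine P.left := isAffine_of_isAffineHom pV.left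
  have : IsOpenImmersion p.left := hj₁.property _ _ p sqP.flip
  let U₀ : W₀.left.Opens := p.left.opensRange
  have hU₀ : IsAffineOpen U₀ := isAffineOpen_opensRange p.left
  have hU₀mem : ∀ q : W₀.left, Points.ofPt π q ∈ Set.range (Points.map j₁) → q ∈ U₀ := fun q hq => by
    rw [← Set.mem_preimage, preimage_ofPt_range sqP.flip] at hq
    exact hq
  -- translation and specialisation
  obtain ⟨K, _, _, ρ, hρ, hρgen⟩ := exists_translation_chart W
  let A : (W ⊗ extObj Ω K).left.Opens := ρ.left ⁻¹ᵁ U₀
  have hA : IsAffineOpen A := hU₀.preimage ρ.left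
  let ψ := Spec.preimage (U.left.fromSpecResidueField u ≫ U.hom)
  let κu : Type u := U.left.residueField u
  letI : Algebra k κu := ψ.hom.toAlgebra
  have hψ : Spec.map (CommRingCat.ofHom (algebraMap k κu)) = U.left.fromSpecResidueField u ≫ U.hom :=
    Spec.map_preimage (U.left.fromSpecResidueField u ≫ U.hom)
  let C := Ω ⊗[k] κu
  let iR : Spec (CommRingCat.of C) ⟶ Spec (CommRingCat.of κu) :=
    Spec.map (CommRingCat.ofHom (Algebra.TensorProduct.includeRight (R := k) (A := Ω) (B := κu)).toRingHom)
  let iL : Spec (CommRingCat.of C) ⟶ Spec (CommRingCat.of Ω) :=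
    Spec.map (CommRingCat.ofHom (Algebra.TensorProduct.includeLeftRingHom (R := k) (A := Ω) (B := κu)))
  have sqC : IsPullback iL iR (Spec.map (CommRingCat.ofHom (algebraMap k Ω)))
      (Spec.map (CommRingCat.ofHom (algebraMap k κu))) :=
    IsPullback.of_iso_pullback ⟨by
      simp only [iL, iR, ← Spec.map_comp]
      congr 1
      ext c
      exact (Algebra.TensorProduct.includeRight (R := k) (A := Ω) (B := κu)).commutes c |>.symm⟩
      (pullbackSpecIso k Ω κu).symm (pullbackSpecIso_inv_fst k Ω κu) (pullbackSpecIso_inv_snd k Ω κu)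
  let τ : Spec (CommRingCat.of C) ⟶ W'.left := sqW'.lift (iR ≫ U.left.fromSpecResidueField u) iL (by
    rw [Category.assoc, ← hψ]; exact sqC.w.symm)
  have sqτ : IsPullback τ iR r.left (U.left.fromSpecResidueField u) := by
    refine IsPullback.of_right (h₁₂ := w'.left) (h₂₂ := U.hom)
      (v₁₃ := Spec.map (CommRingCat.ofHom (algebraMap k Ω))) ?_ (sqW'.lift_fst _ _ _) sqW'.flip
    rw [sqW'.lift_snd, ← hψ]
    exact sqC
  let t : algObj Ω C ⟶ W := Over.homMk (τ ≫ j.left) (by
    show (τ ≫ j.left) ≫ w.left = Spec.map (CommRingCat.ofHom (algebraMap Ω C))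
    have : j ≫ w = w' := (yon _).map_injective (by
      rw [Functor.map_comp, hw, ← Category.assoc, hjeW, hw'])
    rw [Category.assoc, ← Over.comp_left, this, sqW'.lift_snd]
    rfl)
  have hfib : ∀ z : W'.left, r.left z = u → ∃ c, τ c = z := fun z hz => by
    obtain ⟨c, hc, -⟩ := Scheme.Pullback.exists_preimage_pullback z (IsLocalRing.closedPoint κu)
      (hz.trans (Scheme.fromSpecResidueField_apply u _).symm)
    exact ⟨sqτ.isoPullback.inv c, by rw [← Scheme.Hom.comp_apply, sqτ.isoPullback_inv_fst, hc]⟩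
  obtain ⟨V, hV, htV⟩ := exists_affineOpen_of_translate W A hA (finPrimes_tensor k Ω κu) t fun c z hz => by
    let F := c.asIdeal.ResidueField
    let f : C →ₐ[Ω] F := IsScalarTower.toAlgHom Ω C F
    obtain ⟨hmax, hsp⟩ := hρgen F (algHomOver f ≫ t) z hz
    have hc : (algHomOver f).left (IsLocalRing.closedPoint F) = c := PrimeSpectrum.ext (by
      refine Ideal.ext fun s => ?_
      show f s ∈ IsLocalRing.maximalIdeal F ↔ s ∈ c.asIdeal
      rw [IsLocalRing.maximalIdeal_eq_bot, Ideal.mem_bot]
      exact Ideal.algebraMap_residueField_eq_zero)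
    show ρ.left ((jointMap W (algHomOver f ≫ t)).left z) ∈ U₀
    set q : W₀.left := ρ.left ((jointMap W (algHomOver f ≫ t)).left z) with hq
    have hqc : q ⤳ j.left (τ c) := by
      rw [Over.comp_left, Scheme.Hom.comp_apply, Over.comp_left, Scheme.Hom.comp_apply, hc] at hsp
      exact hsp
    obtain ⟨q', hq', hjq'⟩ := Flat.generalizingMap j.left hqc
    obtain ⟨q'', hq'', hq''max⟩ := exists_maximal_generalization q'
    have hjq'' : j.left q'' = q := by
      have h1 : j.left q'' ⤳ q := hjq' ▸ hq''.map j.left.continuous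
      rw [hq, ← Scheme.Hom.comp_apply, ← Over.comp_left] at h1 ⊢
      exact hmax _ h1
    have hru : r.left (τ c) = u := by
      rw [← Scheme.Hom.comp_apply, sqτ.w, Scheme.Hom.comp_apply]
      exact Scheme.fromSpecResidueField_apply u _
    have hr : r.left q'' = ξ := by
      have h1 : r.left q'' ⤳ u := hru ▸ (hq''.trans hq').map r.left.continuous
      obtain ⟨y, hy, hy'⟩ := dirGen_of_group G ha u _ _ h1 hξu
      obtain rfl := hξmax y hy'
      obtain ⟨y', hy', hry'⟩ := Flat.generalizingMap r.left hy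
      obtain rfl := hq''max y' hy'
      exact hry'
    refine hU₀mem q ?_
    rw [← hjq'', hjπ, hr]
    exact hξj
  -- a quasi-compact open containing the affine open
  obtain ⟨Oq, hOq, hOqc, hVO⟩ := exists_compact_open_superset hG
    ((hV.isCompact.image (Points.continuous_ofPt π)).insert x)
  have hjO := repWith_openSubι hOq
  have hspO : IsAlgSpace (openSub Oq) := isAlgSpace_of_representable _ hjO.1 hG
  have := mono_of_openImmersion hjO
  have hemb : Topology.IsEmbedding (Points.map (openSubι Oq)) :=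
    (Topology.IsOpenEmbedding.of_continuous_injective_isOpenMap (Points.continuous_map _) (injective_map_of_mono _)
      (isOpenMap_map_of_repWith (fun _ _ k (_ : IsOpenImmersion k) => inferInstance) hjO)).isEmbedding
  have : CompactSpace (Points (openSub Oq)) :=
    isCompact_univ_iff.1 (hemb.isCompact_iff.2 (by rwa [Set.image_univ, range_openSubι hG]))
  have hpm := isPullback_prod_map_fst' (Y := (yon _).obj (extObj k Ω)) (openSubι Oq)
  obtain ⟨W₁, ⟨eW₁⟩⟩ := isRepresentable_of_openImmersion (repWith_of_isPullback hpm.flip hjO) hrep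
  obtain ⟨i, hi⟩ := (yon _).map_surjective (eW₁.hom ≫ prod.map (openSubι Oq) (𝟙 _) ≫ eW.inv)
  have : IsOpenImmersion i.left := (repWith_yon_map_iff @IsOpenImmersion i).1 (by
    rw [hi]
    exact repWith_comp (repWith_of_isIso _) (repWith_comp (repWith_of_isPullback hpm.flip hjO) (repWith_of_isIso _)))
  have hVi : V ≤ i.left.opensRange := fun v hv => by
    obtain ⟨z, hz⟩ := (range_openSubι hG Oq).ge (hVO (Set.mem_insert_of_mem _ ⟨v, hv, rfl⟩))
    obtain ⟨y, -, hy⟩ := exists_point_of_isPullback hpm.flip z (Points.ofPt eW.hom v) (by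
      rw [hz, Points.map_ofPt])
    obtain ⟨w₁, hw₁⟩ := (Points.schemeEquiv W₁).surjective (Points.map eW₁.inv y)
    refine ⟨w₁, heWinj _ _ ?_⟩
    rw [← ofPt_map, hi, Category.assoc, Category.assoc, Iso.inv_hom_id, Category.comp_id,
      Points.ofPt_eq_map_ofScheme]
    have : Points.ofScheme W₁ w₁ = Points.map eW₁.inv y := hw₁
    show Points.map (eW₁.hom ≫ prod.map (openSubι Oq) (𝟙 _)) (Points.ofScheme W₁ w₁) = _
    rw [this, ← Points.map_comp, Iso.inv_hom_id_assoc, hy]
  obtain ⟨x₁, hx₁⟩ := (range_openSubι hG Oq).ge (hVO (Set.mem_insert x _))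
  obtain ⟨M, jM, hjM, hxM⟩ := exists_openImmersion_nhd hspO (isQuasiCompactSp_of_compactSpace hspO)
    (isQuasiSeparatedSp_of_mono hqs (openSubι Oq)) eW₁ x₁ (i.left ⁻¹ᵁ V) (hV.preimage_of_isOpenImmersion i.left hVi)
    fun w₁ hw₁ => by
      have hπ : Points.ofPt π (i.left w₁) = x := by
        rw [← ofPt_map, hi, ← hx₁, ← hw₁, Points.map_ofPt]
        congr 1
        simp [π]
      obtain ⟨y, hy1, hy2⟩ := exists_point_of_isPullback hb (Points.ofScheme U u) (Points.ofPt eW.hom (i.left w₁))
        (by rw [← Points.ofPt_eq_map_ofScheme, hu, ← hπ, Points.map_ofPt])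
      obtain ⟨z, rfl⟩ := (Points.schemeEquiv W').surjective y
      have hrz : r.left z = u := (Points.schemeEquiv U).injective (Eq.trans (by
        show Points.ofScheme _ _ = Points.map _ (Points.ofScheme _ _)
        rw [← Points.ofPt_eq_map_ofScheme, ← Category.comp_id ((yon _).map r), ofPt_map]) hy1)
      obtain ⟨c, rfl⟩ := hfib z hrz
      have : j.left (τ c) = i.left w₁ := heWinj _ _ (by
        rw [← ofPt_map, hjeW, Points.ofPt_eq_map_ofScheme]
        exact hy2)
      show i.left w₁ ∈ V
      rw [← this]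
      exact htV ⟨c, rfl⟩
  refine ⟨M, jM ≫ openSubι Oq, repWith_comp hjM hjO, ?_⟩
  obtain ⟨m, hm⟩ := hxM
  exact ⟨m, by rw [Points.map_comp, hm, hx₁]⟩

end Groth.Agent.H12AlgSp.GroupField
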