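import Groth.Agent.H12AlgSp.GroupField.Generic
import Groth.Agent.H7Lim.DescendAffine
import Groth.Agent.H7Lim.Topology
import Groth.Agent.H17.ConsPairExists

/-!
An affine open of the base change of a separated scheme to a field extension is defined over a finitely generated
subalgebra.
-/

set_option autoImplicit false
set_option backward.isDefEq.respectTransparency false
set_option linter.style.haveILetI false

universe u

open CategoryTheory CategoryTheory.Limits AlgebraicGeometry MonoidalCategory CartesianMonoidalCategory Opposite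
open Groth.Agent.H13AlgSp Groth.Agent.H7Lim Groth.Agent.H17
open scoped TensorProduct

namespace Groth.Agent.H12AlgSp.GroupField

variable {κ : Type u} [Field κ] {K : Type u} [Field K] [Algebra κ K]

/-- The comparison of base changes along a subalgebra. -/
noncomputable def subMap (W : Over (Spec (CommRingCat.of κ))) (R : Subalgebra κ K) :
    W ⊗ extObj κ K ⟶ W ⊗ algObj κ R :=
  lift (CartesianMonoidalCategory.fst W (extObj κ K)) (CartesianMonoidalCategory.snd W (extObj κ K) ≫ algHomOver R.val)

/-- An affine open of the base change to a field descends to a finitely generated subalgebra. -/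
theorem exists_stage (W : Over (Spec (CommRingCat.of κ))) [IsSeparated W.hom]
    (A : (W ⊗ extObj κ K).left.Opens) (hA : IsAffineOpen A) :
    ∃ (R : Subalgebra κ K) (AR : (W ⊗ algObj κ R).left.Opens),
      R.FG ∧ IsAffineOpen AR ∧ (subMap W R).left ⁻¹ᵁ AR = A := by
  classical
  let E := ConsPair.specSystem κ K
  let d := ConsPair.specCone κ K
  have hd : IsLimit d := ConsPair.isLimitSpecCone κ K
  let e₀ : (Finset K)ᵒᵖ := op ∅
  let str := fun i => (ConsPair.specStr κ K).app i
  have hbij : Function.Bijective (algebraMap κ (Algebra.adjoin κ ((e₀.unop : Finset K) : Set K))) := by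
    refine ⟨RingHom.injective _, fun x => ?_⟩
    obtain ⟨x, hx⟩ := x
    have hx' : x ∈ (⊥ : Subalgebra κ K) := by simpa [e₀] using hx
    obtain ⟨c, rfl⟩ := Algebra.mem_bot.1 hx'
    exact ⟨c, Subtype.ext rfl⟩
  have : IsIso (str e₀) := by
    have : IsIso (CommRingCat.ofHom (algebraMap κ (Algebra.adjoin κ ((e₀.unop : Finset K) : Set K)))) :=
      (ConcreteCategory.isIso_iff_bijective _).2 hbij
    exact inferInstanceAs (IsIso (Spec.map _))
  have hstr : ∀ {i j : (Finset K)ᵒᵖ} (φ : i ⟶ j), E.map φ ≫ str j = str i := fun φ =>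
    ((ConsPair.specStr κ K).naturality φ).trans (Category.comp_id _)
  have hcone : ∀ i, d.π.app i ≫ str i = (extObj κ K).hom := fun i => ConsPair.specCone_str κ K i
  let a : W.left ⟶ E.obj e₀ := W.hom ≫ inv (str e₀)
  have ha : a ≫ str e₀ = W.hom := by simp [a]
  let P := pbCone E d e₀ a
  have hP : IsLimit P := isLimitPbCone E e₀ a hd
  let m : P.pt ⟶ (W ⊗ extObj κ K).left := pullback.map a (d.π.app e₀) W.hom (extObj κ K).hom (𝟙 _) (𝟙 _) (str e₀)
    (by simp [ha]) (by rw [Category.id_comp]; exact hcone e₀)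
  have : IsIso m := inferInstanceAs (IsIso (pullback.map _ _ _ _ (𝟙 _) (𝟙 _) (str e₀) _ _))
  have hA' : IsAffineOpen (m ⁻¹ᵁ A) := hA.preimage_of_isIso m
  have : ∀ (i j : Over e₀) (φ : i ⟶ j), IsAffineHom ((pbDiagram E e₀ a).map φ) := fun i j φ =>
    MorphismProperty.of_isPullback (P := @IsAffineHom) (isPullback_pbDiagram_map E e₀ a φ).flip inferInstance
  obtain ⟨j, -, V₀, hV₀, hV₀c, hpre⟩ :=
    exists_isCompact_isOpen_preimage_eq hP (Over.mk (𝟙 e₀)) (U := (m ⁻¹ᵁ A : Set P.pt)) (m ⁻¹ᵁ A).2 hA'.isCompact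
  let V : ((pbDiagram E e₀ a).obj j).Opens := ⟨V₀, hV₀⟩
  let sndj : (pbDiagram E e₀ a).obj j ⟶ E.obj j.left := pullback.snd a (E.map j.hom)
  have : CompactSpace V.toScheme := isCompact_iff_compactSpace.1 hV₀c
  have hsep : IsSeparated (sndj ≫ str j.left) := by
    have e : sndj ≫ str j.left = pullback.fst a (E.map j.hom) ≫ W.hom := by
      rw [← hstr j.hom, ← Category.assoc, ← pullback.condition, Category.assoc, ha]
    rw [e]
    have : IsAffineHom (pullback.fst a (E.map j.hom)) :=
      MorphismProperty.pullback_fst (P := @IsAffineHom) _ _ inferInstance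
    infer_instance
  have : IsSeparated sndj := IsSeparated.of_comp sndj (str j.left)
  have : QuasiSeparatedSpace V.toScheme := quasiSeparatedSpace_of_quasiSeparated (V.ι ≫ sndj)
  have hdw : d.π.app j.left ≫ E.map j.hom = d.π.app e₀ := d.w j.hom
  have sqπ : IsPullback (P.π.app j) (pullback.snd a (d.π.app e₀)) sndj (d.π.app j.left) :=
    IsPullback.of_right (h₁₂ := pullback.fst a (E.map j.hom)) (h₂₂ := E.map j.hom) (v₁₃ := a)
      (by rw [hdw]; simpa [P] using IsPullback.of_hasPullback a (d.π.app e₀)) (by simp [P, sndj])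
      (IsPullback.of_hasPullback a (E.map j.hom))
  have hlimA : IsAffineHom (pullback.snd (V.ι ≫ sndj) (d.π.app j.left)) := by
    have sq := (isPullback_morphismRestrict (P.π.app j) V).paste_vert sqπ
    have hVA : P.π.app j ⁻¹ᵁ V = m ⁻¹ᵁ A := TopologicalSpace.Opens.ext hpre
    have : IsAffine (P.π.app j ⁻¹ᵁ V).toScheme := hVA.symm ▸ hA'
    have : IsAffine (pullback (V.ι ≫ sndj) (d.π.app j.left)) := IsAffine.of_isIso sq.isoPullback.inv
    have : IsAffine (((Functor.const _).obj d.pt).obj j.left) := inferInstanceAs (IsAffine (Spec _))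
    infer_instance
  obtain ⟨l, φ, hφ⟩ := (descendsAffine_isAffineHom.descends) (Finset K)ᵒᵖ E d hd j.left (V.ι ≫ sndj) trivial hlimA
  let j' : Over e₀ := Over.mk (φ ≫ j.hom)
  let ψ : j' ⟶ j := Over.homMk φ
  let g := (pbDiagram E e₀ a).map ψ
  have hAR : IsAffineOpen (g ⁻¹ᵁ V) := by
    have sq := (isPullback_morphismRestrict g V).paste_vert (isPullback_pbDiagram_map E e₀ a ψ)
    have : IsAffine (pullback (V.ι ≫ pullback.snd a (E.map j.hom)) (E.map ψ.left)) :=
      haveI := hφ
      isAffine_of_isAffineHom (pullback.snd (V.ι ≫ sndj) (E.map φ))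
    exact IsAffine.of_isIso sq.isoPullback.hom
  let R := Algebra.adjoin κ ((l.unop : Finset K) : Set K)
  let ν : (W ⊗ algObj κ R).left ⟶ (pbDiagram E e₀ a).obj j' :=
    pullback.map W.hom (algObj κ R).hom a (E.map j'.hom) (𝟙 _) (𝟙 _) (inv (str e₀))
      (by rw [Category.id_comp]) (by
        rw [Category.id_comp, IsIso.comp_inv_eq, hstr]
        rfl)
  have : IsIso ν := inferInstanceAs (IsIso (pullback.map _ _ _ _ (𝟙 _) (𝟙 _) _ _ _))
  have hν : (subMap W R).left ≫ ν = inv m ≫ P.π.app j' := by
    rw [IsIso.eq_inv_comp]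
    have h₁ : (subMap W R).left ≫ pullback.fst W.hom (algObj κ R).hom = pullback.fst W.hom (extObj κ K).hom :=
      congrArg Over.Hom.left (lift_fst (CartesianMonoidalCategory.fst W (extObj κ K)) _)
    have h₂ : (subMap W R).left ≫ pullback.snd W.hom (algObj κ R).hom =
        pullback.snd W.hom (extObj κ K).hom ≫ (algHomOver R.val).left :=
      congrArg Over.Hom.left (lift_snd (CartesianMonoidalCategory.fst W (extObj κ K)) _)
    apply pullback.hom_ext
    · simp only [ν, P, m, pullback.lift_fst, pbCone_π_app, Category.assoc, Category.comp_id]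
      exact ((congrArg (_ ≫ ·) h₁).trans (pullback.lift_fst _ _ _)).trans (Category.comp_id _)
    · simp only [ν, P, m, pullback.lift_snd, pbCone_π_app, Category.assoc, Category.comp_id]
      refine ((congrArg (_ ≫ ·) h₂).trans ((Category.assoc _ _ _).symm.trans
        (congrArg (· ≫ (algHomOver R.val).left) ((pullback.lift_snd _ _ _).trans (Category.comp_id _))))).trans ?_
      rfl
  refine ⟨R, ν ⁻¹ᵁ (g ⁻¹ᵁ V), Subalgebra.fg_adjoin_finset _, hAR.preimage_of_isIso ν, ?_⟩
  refine TopologicalSpace.Opens.ext ?_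
  show ((subMap W R).left ≫ ν ≫ g) ⁻¹' V₀ = (A : Set _)
  rw [← Category.assoc, hν, Category.assoc, P.w ψ, Scheme.Hom.comp_base, TopCat.coe_comp, Set.preimage_comp]
  erw [hpre]
  show (inv m ≫ m) ⁻¹' (A : Set _) = _
  rw [IsIso.inv_hom_id]
  rfl

end Groth.Agent.H12AlgSp.GroupField
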