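import Groth.Agent.H12AlgSp.GroupField.FinSet
import Groth.Agent.H12AlgSp.GroupField.Stage

/-!
An affine open of a base change of a separated scheme, containing enough generic points, specialises to an affine
open containing a given family of points.
-/

set_option autoImplicit false
set_option backward.isDefEq.respectTransparency false
set_option linter.style.haveILetI false

universe u

open CategoryTheory CategoryTheory.Limits AlgebraicGeometry MonoidalCategory CartesianMonoidalCategory Opposite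
open Groth.Agent.H13AlgSp
open scoped TensorProduct

namespace Groth.Agent.H12AlgSp.GroupField

variable {κ : Type u} [Field κ] [IsAlgClosed κ]

/-- Specialisation of an affine open of a base change. -/
theorem exists_affineOpen_of_translate (W : Over (Spec (CommRingCat.of κ))) [IsSeparated W.hom]
    {K : Type u} [Field K] [Algebra κ K] (A : (W ⊗ extObj κ K).left.Opens) (hA : IsAffineOpen A)
    {C : Type u} [CommRing C] [Algebra κ C] (hC : FinPrimes κ C) (t : algObj κ C ⟶ W)
    (h : ∀ (c : PrimeSpectrum C) (z : PrimeSpectrum (c.asIdeal.ResidueField ⊗[κ] K)), z.asIdeal = ⊥ →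
      (jointMap W (algHomOver (IsScalarTower.toAlgHom κ C c.asIdeal.ResidueField) ≫ t)).left z ∈ A) :
    ∃ V : W.left.Opens, IsAffineOpen V ∧ Set.range t.left ⊆ (V : Set W.left) := by
  classical
  obtain ⟨R, AR, hRfg, hAR, hpre⟩ := exists_stage W A hA
  have : Algebra.FiniteType κ R := (Subalgebra.fg_iff_finiteType _).mp hRfg
  let D := algObj κ (C ⊗[κ] R)
  let τ : D ⟶ W ⊗ algObj κ R :=
    lift (algHomOver Algebra.TensorProduct.includeLeft ≫ t) (algHomOver Algebra.TensorProduct.includeRight)
  let O : Set (PrimeSpectrum (C ⊗[κ] R)) := τ.left ⁻¹' (AR : Set (W ⊗ algObj κ R).left)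
  have hO : IsOpen O := AR.2.preimage τ.left.continuous
  let J := PrimeSpectrum.vanishingIdeal Oᶜ
  have hmem : ∀ x : PrimeSpectrum (C ⊗[κ] R), x ∈ O ↔ ¬ J ≤ x.asIdeal := fun x => by
    have : PrimeSpectrum.zeroLocus (J : Set (C ⊗[κ] R)) = Oᶜ := by
      rw [PrimeSpectrum.zeroLocus_vanishingIdeal_eq_closure, hO.isClosed_compl.closure_eq]
    rw [show J ≤ x.asIdeal ↔ x ∈ PrimeSpectrum.zeroLocus (J : Set (C ⊗[κ] R)) from Iff.rfl, this, Set.notMem_compl_iff]
  obtain ⟨χ, hχ⟩ := exists_algHom_map_eq_top hC R.val J fun c => by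
    let F := c.asIdeal.ResidueField
    let f : C →ₐ[κ] F := IsScalarTower.toAlgHom κ C F
    have : IsDomain (F ⊗[κ] K) := H19Grp.isDomain_tensorProduct F K
    let z : PrimeSpectrum (F ⊗[κ] K) := ⟨⊥, Ideal.isPrime_bot⟩
    let Φ : C ⊗[κ] R →ₐ[κ] F ⊗[κ] K := Algebra.TensorProduct.map f R.val
    have hcompose : ∀ {A B D' : Type u} [CommRing A] [CommRing B] [CommRing D'] [Algebra κ A] [Algebra κ B]
        [Algebra κ D'] (p : A →ₐ[κ] B) (q : B →ₐ[κ] D'), algHomOver (k := κ) q ≫ algHomOver p = algHomOver (q.comp p) :=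
      fun p q => Over.OverMorphism.ext ((Spec.map_comp _ _).symm)
    have hc : algHomOver Φ ≫ τ = jointMap W (algHomOver f ≫ t) ≫ subMap W R := by
      simp only [τ, subMap, jointMap, comp_lift, ← Category.assoc, lift_fst, lift_snd, hcompose]
      rw [show Φ.comp Algebra.TensorProduct.includeLeft =
            (Algebra.TensorProduct.includeLeft : F →ₐ[κ] F ⊗[κ] K).comp f from AlgHom.ext fun x => by simp [Φ],
        show Φ.comp Algebra.TensorProduct.includeRight =
            (Algebra.TensorProduct.includeRight : K →ₐ[κ] F ⊗[κ] K).comp R.val from AlgHom.ext fun x => by simp [Φ]]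
    have hz : (⟨Ideal.comap Φ.toRingHom ⊥, inferInstance⟩ : PrimeSpectrum (C ⊗[κ] R)) ∈ O := by
      show (algHomOver Φ ≫ τ).left z ∈ AR
      rw [hc, Over.comp_left, Scheme.Hom.comp_apply]
      show (jointMap W _).left z ∈ (subMap W R).left ⁻¹ᵁ AR
      rw [hpre]
      exact h c z rfl
    obtain ⟨x, hx, hxn⟩ := SetLike.not_le_iff_exists.1 ((hmem _).1 hz)
    exact ⟨x, hx, fun h0 => hxn h0⟩
  let hχ' : W ⟶ algObj κ R := Over.homMk (W.hom ≫ Spec.map (CommRingCat.ofHom χ.toRingHom)) (by
    refine (Category.assoc _ _ _).trans ((congrArg (W.hom ≫ ·) ?_).trans (Category.comp_id _))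
    refine (Spec.map_comp _ _).symm.trans ?_
    rw [← Spec.map_id]
    congr 1
    ext c
    exact χ.commutes c)
  let s : W ⟶ W ⊗ algObj κ R := lift (𝟙 W) hχ'
  have : IsAffineHom (algObj κ R).hom := inferInstanceAs (IsAffineHom (Spec.map _))
  have : IsAffineHom (CartesianMonoidalCategory.fst W (algObj κ R)).left :=
    MorphismProperty.pullback_fst (P := @IsAffineHom) W.hom (algObj κ R).hom inferInstance
  have hcomp : s.left ≫ (CartesianMonoidalCategory.fst W (algObj κ R)).left = 𝟙 _ :=
    congrArg Over.Hom.left (lift_fst (𝟙 W) hχ')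
  have : IsAffineHom (s.left ≫ (CartesianMonoidalCategory.fst W (algObj κ R)).left) := hcomp ▸ inferInstance
  have : IsAffineHom s.left := IsAffineHom.of_comp s.left (CartesianMonoidalCategory.fst W (algObj κ R)).left
  refine ⟨s.left ⁻¹ᵁ AR, hAR.preimage s.left, ?_⟩
  rintro _ ⟨c, rfl⟩
  let Φ : C ⊗[κ] R →ₐ[κ] C :=
    Algebra.TensorProduct.lift (AlgHom.id κ C) ((Algebra.ofId κ C).comp χ) fun _ _ => Commute.all _ _
  have hs : t ≫ s = algHomOver Φ ≫ τ := by
    simp only [s, τ, comp_lift, Category.comp_id]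
    congr 1
    · rw [← Category.assoc]
      refine ((congrArg (· ≫ t) ?_).trans (Category.id_comp _)).symm
      refine Over.OverMorphism.ext ((Spec.map_comp _ _).symm.trans ?_)
      refine (congrArg Spec.map ?_).trans (Spec.map_id _)
      ext x
      simp [Φ]
    · refine Over.OverMorphism.ext ?_
      simp only [Over.comp_left, hχ', Over.homMk_left, algHomOver]
      rw [← Category.assoc, Over.w t]
      refine (Spec.map_comp _ _).symm.trans ((congrArg Spec.map ?_).trans (Spec.map_comp _ _))
      ext x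
      change algebraMap κ C (χ x) = Φ ((1 : C) ⊗ₜ[κ] (x : R))
      simp [Φ]
  show (t ≫ s).left c ∈ AR
  rw [hs]
  show (⟨Ideal.comap Φ.toRingHom c.asIdeal, inferInstance⟩ : PrimeSpectrum (C ⊗[κ] R)) ∈ O
  rw [hmem]
  intro hle
  exact c.isPrime.ne_top (top_le_iff.1 (hχ ▸ Ideal.map_le_iff_le_comap.2 hle))

end Groth.Agent.H12AlgSp.GroupField
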